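import Groth.Agent.PerfGen7.PerfectTensorPC
import Groth.Agent.KFlatLib.Scheme.CohD
import Groth.Agent.KFlatLib.Scheme.QCohDerived

/-! The derived tensor product of pseudo-coherent objects. -/

noncomputable section

set_option backward.isDefEq.respectTransparency false
set_option linter.style.haveILetI false

universe u

open CategoryTheory CategoryTheory.Limits AlgebraicGeometry Pretriangulated

attribute [local instance] HasDerivedCategory.standard

namespace Groth.Agent.TensorPC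

open Groth.Agent.KFlatLib Groth.Agent.PerfGen7

variable {X : Scheme.{u}}

/-- Bounded above objects stay bounded above on opens. -/
theorem isLE_restrict {U : Scheme.{u}} (j : U ⟶ X) [IsOpenImmersion j] (K : DCoh.D X) (b : ℤ) [K.IsLE b] :
    ((rho j).obj K).IsLE b := by
  rw [DerivedCategory.isLE_iff]
  exact fun i hi => IsZero.of_iso ((Scheme.Modules.restrictFunctor j).map_isZero
    (DerivedCategory.isZero_of_isLE K b i hi)) (restrictHDIso j K i)

/-- Tensoring two pseudo-coherent objects, one bounded above. -/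
theorem locPC_tensorCx {K₀ M₀ : CochainComplex X.Modules ℤ} (hK₀ : DCoh.IsKFlat K₀) (hM₀ : DCoh.IsKFlat M₀)
    (hK : ∀ m, LocPC m (DCoh.toD X K₀)) (hM : ∀ m, LocPC m (DCoh.toD X M₀)) (b : ℤ) [(DCoh.toD X M₀).IsLE b]
    (m : ℤ) : LocPC m (DCoh.toD X ((DCoh.tensorCx.obj K₀).obj M₀)) := by
  refine LocPC.of_local fun x => ?_
  obtain ⟨V, i, _, hx, P, α, hP, hα⟩ := hK (m - b) x
  refine ⟨V, i, inferInstance, hx, ?_⟩
  let KV := (pullCx i).obj K₀
  let MV := (pullCx i).obj M₀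
  let eK : (rho i).obj (DCoh.toD X K₀) ≅ DerivedCategory.Q.obj KV :=
    (rhoQ i).app K₀ ≪≫ DerivedCategory.Q.mapIso ((restrictPullCxIso i).app K₀)
  let eM : (rho i).obj (DCoh.toD X M₀) ≅ DerivedCategory.Q.obj MV :=
    (rhoQ i).app M₀ ≪≫ DerivedCategory.Q.mapIso ((restrictPullCxIso i).app M₀)
  have hMV : ∀ n, LocPC n (DCoh.toD V MV) := fun n => ((hM n).restrict i).of_iso eM
  haveI : (DCoh.toD V MV).IsLE b := by
    haveI := isLE_restrict i (DCoh.toD X M₀) b
    exact DerivedCategory.TStructure.t.isLE_of_iso eM b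
  have hPflat : DCoh.IsKFlat P := isKFlat_of_isStrictlyPerfect hP
  have hPperf : DCoh.IsPerfect (DCoh.toD V P) := (KFlatLib.isPerfect_iff _).2 fun v =>
    ⟨V, 𝟙 V, inferInstance, ⟨v, rfl⟩, _, isStrictlyPerfect_restrict (𝟙 V) hP, ⟨((rhoQ (𝟙 V)).app P).symm⟩⟩
  haveI := hasLTensorCx MV
  obtain ⟨C, g, h, hT⟩ := distinguished_cocone_triangle (α ≫ eK.hom)
  let T := Triangle.mk (α ≫ eK.hom) g h
  obtain ⟨T', hT', ⟨e₁⟩, ⟨e₂⟩, ⟨e₃⟩⟩ := exists_ltensor_triangle MV T hT
  have hC : C.IsLE (m - b - 1) := by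
    rw [DerivedCategory.isLE_iff]
    exact fun n hn => isZero_hd_obj₃_of_isPcMap T hT (hα.comp (isPcMap_of_isIso _ _)) n (by omega)
  haveI := hC
  have h2 : LocPC m T'.obj₂ := by
    refine LocPC.of_iso e₂.symm (locPC_of_isZero m _ fun n hn => ?_)
    haveI : ((DCoh.LTensorCx MV).obj T.obj₃).IsLE (m - b - 1 + b) := isLE_ltensor MV b C (m - b - 1)
    exact DerivedCategory.isZero_of_isLE _ (m - b - 1 + b) n (by omega)
  have h3 : LocPC (m - 1) T'.obj₃ :=
    LocPC.of_iso e₃.symm (((locPC_tensorCx_of_perfect hPflat (isKFlat_pullback i hM₀) hPperf hMV m).of_iso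
      (ltensorCxIso MV hPflat).symm).shift 1)
  have h1 := (locPC_two_of_three (m - 1) T' hT').2.2 (by rwa [sub_add_cancel]) h3
  rw [sub_add_cancel] at h1
  exact (h1.of_iso e₁).of_iso (ltensorCxIso MV (isKFlat_pullback i hK₀) ≪≫
    DerivedCategory.Q.mapIso (pullTensorCxIso i K₀ M₀ ≪≫ ((restrictPullCxIso i).app _).symm) ≪≫
    ((rhoQ i).app _).symm)

/-- `D^-_Coh` is stable under the derived tensor product. -/
theorem isCohD_ltensor [IsLocallyNoetherian X] (E : CochainComplex X.Modules ℤ) [DCoh.HasLTensorCx E]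
    (L : DCoh.D X) (hL : DCoh.IsCohD L) (hE : DCoh.IsCohD (DCoh.toD X E)) (a b : ℤ) [L.IsLE a]
    [(DCoh.toD X E).IsLE b] : DCoh.IsCohD ((DCoh.LTensorCx E).obj L) := by
  have hq := isQCohD_ltensor E (isCohD_isQCohD hE) (isCohD_isQCohD hL)
  have hLpc : ∀ m, LocPC m L := fun m => locPC_of_coh (isCohD_isQCohD hL) (fun i _ => hL i) a
    fun i hi => DerivedCategory.isZero_of_isLE L a i hi
  have hEpc : ∀ m, LocPC m (DCoh.toD X E) := fun m => locPC_of_coh (isCohD_isQCohD hE) (fun i _ => hE i) b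
    fun i hi => DerivedCategory.isZero_of_isLE _ b i hi
  let K₀ := repK L
  let M₀ := repK (DCoh.toD X E)
  have hK₀ : DCoh.IsKFlat K₀ := isKFlat_repK _
  have hM₀ : DCoh.IsKFlat M₀ := isKFlat_repK _
  haveI := hasLTensorCx M₀
  obtain ⟨c⟩ := nonempty_LTensorCx_congr_D (repKIso (DCoh.toD X E))
  let e : DCoh.toD X ((DCoh.tensorCx.obj K₀).obj M₀) ≅ (DCoh.LTensorCx E).obj L :=
    (ltensorCxIso M₀ hK₀).symm ≪≫ c.app _ ≪≫ (DCoh.LTensorCx E).mapIso (repKIso L)
  haveI : (DCoh.toD X M₀).IsLE b := DerivedCategory.TStructure.t.isLE_of_iso (repKIso _).symm b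
  intro i
  exact isCoh_of_locPC hq ((locPC_tensorCx hK₀ hM₀ (fun m => (hLpc m).of_iso (repKIso L).symm)
    (fun m => (hEpc m).of_iso (repKIso _).symm) b i).of_iso e) i le_rfl

end Groth.Agent.TensorPC
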